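import Cfsg.Prelude.Def_Local
import Cfsg.Agent.Lib.PPrimeDegree.Basic
import Cfsg.Agent.Lib.PrimeDegrees.Solvable
import Cfsg.Agent.Lib.PSolvable.Basic
import Cfsg.Agent.Lib.Clifford.Ito

/-!
# Characters of degree prime to p in p-solvable groups
-/

set_option autoImplicit false
set_option linter.unusedSectionVars false
set_option linter.style.haveILetI false

namespace Cfsg.Agent.Lib.ItoPSolv.Basic

open Subgroup MulAction
open Cfsg.Agent.Lib.Characters Cfsg.Agent.Lib.Characters.Basic Cfsg.Agent.Lib.Clifford.Basic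
open Cfsg.Agent.Lib.BlocksChars5

universe u

/-- A finite group is not the union of the conjugates of a proper subgroup. -/
theorem eq_top_of_conj_mem {M : Type u} [Group M] [Finite M] (C : Subgroup M)
    (h : ∀ m : M, ∃ a : M, a⁻¹ * m * a ∈ C) : C = ⊤ := by
  classical
  haveI := Fintype.ofFinite M
  haveI := Fintype.ofFinite (M ⧸ C)
  have hb := MulAction.sum_card_fixedBy_eq_card_orbits_mul_card_group M (M ⧸ C)
  haveI : Subsingleton (Quotient (orbitRel M (M ⧸ C))) :=
    (pretransitive_iff_subsingleton_quotient M (M ⧸ C)).mp inferInstance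
  rw [show Fintype.card (Quotient (orbitRel M (M ⧸ C))) = 1 from
    le_antisymm (Fintype.card_le_one_iff_subsingleton.mpr inferInstance)
      (Fintype.card_pos_iff.mpr ⟨Quotient.mk _ (QuotientGroup.mk 1)⟩), one_mul] at hb
  rw [← Finset.add_sum_erase _ _ (Finset.mem_univ (1 : M))] at hb
  have h1 : Fintype.card (fixedBy (M ⧸ C) (1 : M)) = C.index := by
    rw [Subgroup.index, Nat.card_eq_fintype_card]
    exact Fintype.card_congr (_root_.Equiv.subtypeUnivEquiv fun x => one_smul M x)
  have h2 : ∀ m ∈ Finset.univ.erase (1 : M), 1 ≤ Fintype.card (fixedBy (M ⧸ C) m) := by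
    intro m _
    obtain ⟨a, ha⟩ := h m
    refine Fintype.card_pos_iff.mpr ⟨⟨(a : M ⧸ C), ?_⟩⟩
    show m • (a : M ⧸ C) = a
    rw [Quotient.smul_mk, QuotientGroup.eq, smul_eq_mul]
    have := C.inv_mem ha
    simpa [mul_assoc] using this
  have h3 := Finset.sum_le_sum h2
  rw [Finset.sum_const, smul_eq_mul, mul_one, Finset.card_erase_of_mem (Finset.mem_univ _),
    Finset.card_univ] at h3
  refine index_eq_one.mp ?_
  have := C.index_ne_zero_of_finite
  have : 0 < Fintype.card M := Fintype.card_pos
  omega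

variable {G : Type u} [Group G] [Finite G] {p : ℕ} [hp : Fact p.Prime]

/-- If all degrees are prime to `p`, a normal `p`-subgroup is abelian. -/
theorem comm_of_normal (h : ∀ χ : Cfsg.IrrCharacter G, ¬ p ∣ Cfsg.charDegree (χ : G → ℂ))
    (Q : Subgroup G) [Q.Normal] (hQ : IsPGroup p Q) : ∀ a b : Q, a * b = b * a := by
  intro a b
  haveI := Fintype.ofFinite G
  haveI := Fintype.ofFinite Q
  have h1 : ∀ θ : Cfsg.IrrCharacter Q, (θ : Q → ℂ) 1 = 1 := by
    intro θ
    obtain ⟨χ, hχ⟩ := PrimeDegrees.Solvable.degree_dvd_above Q θ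
    obtain ⟨n, hn⟩ := IsPGroup.iff_card.mp hQ
    have hd := BlocksChars5.Basic.degree_dvd_card θ
    rw [hn] at hd
    obtain ⟨i, -, hi⟩ := (Nat.dvd_prime_pow hp.out).mp hd
    rcases Nat.eq_zero_or_pos i with rfl | hi0
    · rw [BlocksChars5.Basic.apply_one, hi, pow_zero, Nat.cast_one]
    · exact absurd ((hi ▸ dvd_pow_self p hi0.ne').trans hχ) (h χ)
  have h2 : a * b * a⁻¹ * b⁻¹ = 1 := by
    refine Complete.eq_one_of_forall_irr fun θ => ?_
    simp only [← Linear.degOneHom_apply (isCharacter_irr θ) (h1 θ), map_mul, map_inv, map_one]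
    congr 1
    rw [mul_inv_eq_one, mul_inv_eq_iff_eq_mul, mul_comm]
  rwa [mul_inv_eq_one, mul_inv_eq_iff_eq_mul] at h2

/-- If all degrees are prime to `p`, a normal `p'`-subgroup `N` with `N P` normal commutes with
`P`. -/
theorem commute_core (h : ∀ χ : Cfsg.IrrCharacter G, ¬ p ∣ Cfsg.charDegree (χ : G → ℂ))
    (P : Sylow p G) (N : Subgroup G) [N.Normal] (hN : ¬ p ∣ Nat.card N)
    [((P : Subgroup G) ⊔ N).Normal] : ∀ u ∈ (P : Subgroup G), ∀ n ∈ N, u * n = n * u := by
  classical
  haveI := Fintype.ofFinite G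
  haveI := Fintype.ofFinite N
  haveI := Fintype.ofFinite (Cfsg.IrrCharacter N)
  have hfix : ∀ θ : Cfsg.IrrCharacter N, (P : Subgroup G) ≤ inertia N (θ : N → ℂ) := by
    intro θ
    obtain ⟨χ, hχ⟩ := PrimeDegrees.Solvable.exists_above N θ
    set T := inertia N (θ : N → ℂ) with hT
    have hidx : ¬ p ∣ T.index := by
      intro hd
      obtain ⟨e, he⟩ := exists_classInner_nat (isCharacter_comp N.subtype (isCharacter_irr χ))
        (isCharacter_irr θ)
      have hc := clifford_degree N χ.2 θ hχ
      rw [show (fun n : N => (χ : G → ℂ) n) = (χ : G → ℂ) ∘ N.subtype from rfl, he,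
        BlocksChars5.Basic.apply_one, BlocksChars5.Basic.apply_one, ← Nat.cast_mul,
        ← Nat.cast_mul] at hc
      refine h χ ?_
      rw [Nat.cast_injective hc]
      exact dvd_mul_of_dvd_left (dvd_mul_of_dvd_right hd _) _
    obtain ⟨S⟩ : Nonempty (Sylow p T) := inferInstance
    have hSp : IsPGroup p ((S : Subgroup T).map T.subtype) := S.2.map _
    obtain ⟨S', hS'⟩ := hSp.exists_le_sylow
    have hS'eq : (S : Subgroup T).map T.subtype = (S' : Subgroup G) := by
      refine eq_of_le_of_card_ge hS' (Nat.le_of_eq ?_)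
      rw [card_map_of_injective T.subtype_injective, S.card_eq_multiplicity,
        S'.card_eq_multiplicity, ← T.card_mul_index,
        Nat.factorization_mul Nat.card_pos.ne' T.index_ne_zero_of_finite, Finsupp.add_apply,
        Nat.factorization_eq_zero_of_not_dvd hidx, add_zero]
    obtain ⟨g, hg⟩ := MulAction.exists_smul_eq G S' P
    have hNT : N ≤ T := le_inertia N (isClassFunction_irr θ)
    have hle : (S' : Subgroup G) ⊔ N ≤ T :=
      sup_le (hS'eq ▸ map_subtype_le _) hNT
    intro u hu
    refine hle ?_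
    have hu' : g⁻¹ * u * g ∈ (S' : Subgroup G) := by
      rw [← hg] at hu
      obtain ⟨v, hv, rfl⟩ := hu
      show g⁻¹ * (g * v * g⁻¹) * g ∈ (S' : Subgroup G)
      rw [show g⁻¹ * (g * v * g⁻¹) * g = v by group]
      exact hv
    have hS'le : (S' : Subgroup G) ⊔ N = (P : Subgroup G) ⊔ N := by
      have hsub : (S' : Subgroup G) ≤ (P : Subgroup G) ⊔ N := by
        intro v hv
        have : g * v * g⁻¹ ∈ (P : Subgroup G) := by
          rw [← hg]
          exact ⟨v, hv, rfl⟩
        have := Normal.conj_mem inferInstance _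
          (mem_sup_left (T := N) this) g⁻¹
        simpa [mul_assoc] using this
      refine eq_of_le_of_card_ge (sup_le hsub le_sup_right) (Nat.le_of_eq ?_)
      rw [card_sup_sylow hN P, card_sup_sylow hN S']
    exact hS'le ▸ mem_sup_left hu
  have hconj : ∀ u ∈ (P : Subgroup G), ∀ n : N,
      IsConj n ⟨u * n * u⁻¹, Normal.conj_mem inferInstance _ n.2 u⟩ := by
    intro u hu n
    refine (Complete.isConj_iff_forall_irr _ _).mpr fun θ => ?_
    exact (congrFun ((mem_inertia N).mp (hfix θ hu)) n).symm.trans (by rw [conjC_apply])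
  set C : Subgroup N := (centralizer ((P : Subgroup G) : Set G)).comap N.subtype with hC
  have htop : C = ⊤ := by
    refine eq_top_of_conj_mem C fun n => ?_
    haveI : Finite {m : N // IsConj n m} := inferInstance
    letI : MulAction (P : Subgroup G) {m : N // IsConj n m} :=
      { smul := fun u m => ⟨⟨(u : G) * m.1 * (u : G)⁻¹, Normal.conj_mem inferInstance _ m.1.2 u⟩,
          m.2.trans (hconj u u.2 m.1)⟩
        one_smul := fun m => Subtype.ext (Subtype.ext (by
          show ((1 : (P : Subgroup G)) : G) * m.1 * ((1 : (P : Subgroup G)) : G)⁻¹ = m.1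
          simp))
        mul_smul := fun a b m => Subtype.ext (Subtype.ext (by
          show ((a * b : (P : Subgroup G)) : G) * m.1 * ((a * b : (P : Subgroup G)) : G)⁻¹ =
            (a : G) * ((b : G) * m.1 * (b : G)⁻¹) * (a : G)⁻¹
          simp [mul_assoc])) }
    have hnd : ¬ p ∣ Nat.card {m : N // IsConj n m} := fun hd => hN (hd.trans
      ⟨_, (Complete.card_conjugates_mul_centralizer n).symm⟩)
    obtain ⟨m, hm⟩ := P.2.nonempty_fixed_point_of_prime_not_dvd_card _ hnd
    obtain ⟨a, ha⟩ := isConj_iff.mp m.2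
    refine ⟨a⁻¹, ?_⟩
    rw [inv_inv, ha]
    show (m.1 : G) ∈ centralizer ((P : Subgroup G) : Set G)
    refine mem_centralizer_iff.mpr fun u hu => ?_
    have := congrArg (fun z : {m : N // IsConj n m} => (z.1 : G)) (hm ⟨u, hu⟩)
    exact mul_inv_eq_iff_eq_mul.mp this
  intro u hu n hn
  have : (⟨n, hn⟩ : N) ∈ C := htop ▸ mem_top _
  exact mem_centralizer_iff.mp this u hu
where
  card_sup_sylow {G : Type u} [Group G] [Finite G] {p : ℕ} [Fact p.Prime] {N : Subgroup G}
      [N.Normal] (hN : ¬ p ∣ Nat.card N) (S : Sylow p G) :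
      Nat.card ↥((S : Subgroup G) ⊔ N) = p ^ (Nat.card G).factorization p * Nat.card N := by
    have h1 := (relIndex_sup_right (K := N) (H := (S : Subgroup G)))
    have h2 : N.relIndex (S : Subgroup G) = Nat.card (S : Subgroup G) := by
      rw [← inf_relIndex_right, show N ⊓ (S : Subgroup G) = ⊥ from ?_, relIndex_bot_left]
      refine Subgroup.inf_eq_bot_of_coprime ?_
      rw [S.card_eq_multiplicity]
      exact (((Fact.out : p.Prime).coprime_iff_not_dvd.mpr hN).pow_left _).symm
    have h3 := Subgroup.relIndex_mul_relIndex (⊥ : Subgroup G) N ((S : Subgroup G) ⊔ N) bot_le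
      le_sup_right
    rw [relIndex_bot_left, relIndex_bot_left, h1, h2, S.card_eq_multiplicity] at h3
    rw [← h3, mul_comm]

/-- In a p-solvable group with all degrees prime to p the Sylow subgroup is normal. -/
theorem normal_sylow : ∀ (n : ℕ) (G : Type u) [Group G] [Finite G], Nat.card G ≤ n →
    Cfsg.IsPSolvable p G →
    (∀ χ : Cfsg.IrrCharacter G, ¬ p ∣ Cfsg.charDegree (χ : G → ℂ)) →
    ∀ P : Sylow p G, (P : Subgroup G).Normal := by
  intro n
  induction n with
  | zero => intro G _ _ hcard; exact absurd hcard (not_le.2 Nat.card_pos)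
  | succ n ih =>
    intro G _ _ hcard hsolv hdeg P
    rcases subsingleton_or_nontrivial G with hG | hG
    · exact ⟨fun x hx g => by rwa [Subsingleton.elim (g * x * g⁻¹) x]⟩
    obtain ⟨N, hNn, hNb, hNmin⟩ : ∃ N : Subgroup G, N.Normal ∧ N ≠ ⊥ ∧
        ∀ K : Subgroup G, K.Normal → K ≤ N → K = ⊥ ∨ K = N := by
      obtain ⟨N, -, hN⟩ := Finite.exists_le_minimal (p := fun K : Subgroup G => K.Normal ∧ K ≠ ⊥)
        (a := ⊤) ⟨inferInstance, top_ne_bot⟩
      exact ⟨N, hN.1.1, hN.1.2, fun K hK hle => or_iff_not_imp_left.mpr fun hb =>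
        le_antisymm hle (hN.2 ⟨hK, hb⟩ hle)⟩
    haveI := hNn
    have hlt : Nat.card (G ⧸ N) ≤ n := by
      have h1 : 1 < Nat.card N := by
        rw [Finite.one_lt_card_iff_nontrivial]
        exact N.nontrivial_iff_ne_bot.2 hNb
      have h2 := N.card_eq_card_quotient_mul_card_subgroup
      have h3 : 0 < Nat.card (G ⧸ N) := Nat.card_pos
      nlinarith
    let P' : Sylow p (G ⧸ N) := P.mapSurjective (QuotientGroup.mk'_surjective N)
    have hP' : (P' : Subgroup (G ⧸ N)).Normal :=
      ih (G ⧸ N) hlt (PSolvable.isPSolvable_quotient hsolv N) (fun χ => by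
        have := hdeg (BlocksChars5.Basic.inflate N χ)
        rwa [BlocksChars5.Basic.charDegree_congr
          (f := (BlocksChars5.Basic.inflate N χ : G → ℂ)) (f' := (χ : G ⧸ N → ℂ)) rfl] at this) P'
    haveI hM : ((P : Subgroup G) ⊔ N).Normal := by
      have : (P : Subgroup G) ⊔ N = (P' : Subgroup (G ⧸ N)).comap (QuotientGroup.mk' N) := by
        rw [Sylow.coe_mapSurjective, comap_map_eq, QuotientGroup.ker_mk']
      rw [this]
      exact hP'.comap _
    rcases PSolvable.minimal_normal_isPGroup_or_coprime hsolv N hNmin with hp' | hp'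
    · have : N ≤ (P : Subgroup G) := hp'.le_sylow_of_normal P
      rwa [sup_eq_left.mpr this] at hM
    · have hN : ¬ p ∣ Nat.card N := hp.out.coprime_iff_not_dvd.mp hp'.symm
      have hcomm := commute_core hdeg P N hN
      have hnorm : (P : Subgroup G) ⊔ N ≤ normalizer ((P : Subgroup G) : Set G) := by
        refine sup_le le_normalizer fun m hm => mem_normalizer_iff.mpr fun q => ?_
        constructor
        · intro hq
          rwa [← hcomm q hq m hm, mul_inv_cancel_right]
        · intro hq
          have := hcomm _ hq m hm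
          have e : m * q * m⁻¹ = q := by
            have e1 : m⁻¹ * (m * q * m⁻¹) * m = m * q * m⁻¹ := by
              rw [mul_assoc, this, inv_mul_cancel_left]
            calc m * q * m⁻¹ = m⁻¹ * (m * q * m⁻¹) * m := e1.symm
              _ = q := by group
          rwa [e] at hq
      refine ⟨fun x hx g => ?_⟩
      set M := (P : Subgroup G) ⊔ N with hMdef
      haveI : ((P.subtype (le_sup_left : (P : Subgroup G) ≤ M) : Sylow p M) :
          Subgroup M).Normal := by
        refine ⟨fun y hy k => ?_⟩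
        exact mem_subgroupOf.mpr ((mem_normalizer_iff.mp (hnorm k.2) _).mp (mem_subgroupOf.mp hy))
      have hxg : g * x * g⁻¹ ∈ M := hM.conj_mem x (mem_sup_left hx) g
      have hmem : (⟨g * x * g⁻¹, hxg⟩ : M) ∈
          ((P.subtype (le_sup_left : (P : Subgroup G) ≤ M) : Sylow p M) : Subgroup M) := by
        have hp'' : IsPGroup p (zpowers (⟨g * x * g⁻¹, hxg⟩ : M)) := by
          obtain ⟨k, hk⟩ := (IsPGroup.iff_orderOf.mp P.2) ⟨x, hx⟩
          refine IsPGroup.of_card (n := k) ?_
          rw [Nat.card_zpowers, orderOf_mk, ← hk, orderOf_mk]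
          exact MulEquiv.orderOf_eq (MulAut.conj g) x
        obtain ⟨R, hR⟩ := hp''.exists_le_sylow
        haveI := Sylow.unique_of_normal _ (‹((P.subtype (le_sup_left : (P : Subgroup G) ≤ M) :
          Sylow p M) : Subgroup M).Normal›)
        rw [Subsingleton.elim (P.subtype _) R]
        exact hR (mem_zpowers _)
      exact mem_subgroupOf.mp hmem

end Cfsg.Agent.Lib.ItoPSolv.Basic
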